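import Cfsg.Agent.Lib.ToddCox.Fi23O.OrbD
set_option autoImplicit false
set_option maxRecDepth 100000
namespace Cfsg.Agent.Lib.ToddCox.Fi23O
open Cfsg.Agent.Lib.ToddCox.Fi23_31671 in
theorem lv0_0 : allBits (fun k => bif Nat.blt k 31671 then chkOrbPos Cfsg.Agent.Lib.ToddCox.Fi23_31671.tab L 0 0 31671 31671 (fun q => orbR (Nat.add 0 q)) k else true) 11 0 = true := by decide +kernel
theorem lv0_1 : allBits (fun k => bif Nat.blt k 31671 then chkOrbPos Cfsg.Agent.Lib.ToddCox.Fi23_31671.tab L 0 0 31671 31671 (fun q => orbR (Nat.add 0 q)) k else true) 11 2048 = true := by decide +kernel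
theorem lv0_2 : allBits (fun k => bif Nat.blt k 31671 then chkOrbPos Cfsg.Agent.Lib.ToddCox.Fi23_31671.tab L 0 0 31671 31671 (fun q => orbR (Nat.add 0 q)) k else true) 11 4096 = true := by decide +kernel
theorem lv0_3 : allBits (fun k => bif Nat.blt k 31671 then chkOrbPos Cfsg.Agent.Lib.ToddCox.Fi23_31671.tab L 0 0 31671 31671 (fun q => orbR (Nat.add 0 q)) k else true) 11 6144 = true := by decide +kernel
theorem lv0_4 : allBits (fun k => bif Nat.blt k 31671 then chkOrbPos Cfsg.Agent.Lib.ToddCox.Fi23_31671.tab L 0 0 31671 31671 (fun q => orbR (Nat.add 0 q)) k else true) 11 8192 = true := by decide +kernel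
theorem lv0_5 : allBits (fun k => bif Nat.blt k 31671 then chkOrbPos Cfsg.Agent.Lib.ToddCox.Fi23_31671.tab L 0 0 31671 31671 (fun q => orbR (Nat.add 0 q)) k else true) 11 10240 = true := by decide +kernel
theorem lv0_6 : allBits (fun k => bif Nat.blt k 31671 then chkOrbPos Cfsg.Agent.Lib.ToddCox.Fi23_31671.tab L 0 0 31671 31671 (fun q => orbR (Nat.add 0 q)) k else true) 11 12288 = true := by decide +kernel
theorem lv0_7 : allBits (fun k => bif Nat.blt k 31671 then chkOrbPos Cfsg.Agent.Lib.ToddCox.Fi23_31671.tab L 0 0 31671 31671 (fun q => orbR (Nat.add 0 q)) k else true) 11 14336 = true := by decide +kernel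
theorem lv0_8 : allBits (fun k => bif Nat.blt k 31671 then chkOrbPos Cfsg.Agent.Lib.ToddCox.Fi23_31671.tab L 0 0 31671 31671 (fun q => orbR (Nat.add 0 q)) k else true) 11 16384 = true := by decide +kernel
theorem lv0_9 : allBits (fun k => bif Nat.blt k 31671 then chkOrbPos Cfsg.Agent.Lib.ToddCox.Fi23_31671.tab L 0 0 31671 31671 (fun q => orbR (Nat.add 0 q)) k else true) 11 18432 = true := by decide +kernel
theorem lv0_10 : allBits (fun k => bif Nat.blt k 31671 then chkOrbPos Cfsg.Agent.Lib.ToddCox.Fi23_31671.tab L 0 0 31671 31671 (fun q => orbR (Nat.add 0 q)) k else true) 11 20480 = true := by decide +kernel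
theorem lv0_11 : allBits (fun k => bif Nat.blt k 31671 then chkOrbPos Cfsg.Agent.Lib.ToddCox.Fi23_31671.tab L 0 0 31671 31671 (fun q => orbR (Nat.add 0 q)) k else true) 11 22528 = true := by decide +kernel
theorem lv0_12 : allBits (fun k => bif Nat.blt k 31671 then chkOrbPos Cfsg.Agent.Lib.ToddCox.Fi23_31671.tab L 0 0 31671 31671 (fun q => orbR (Nat.add 0 q)) k else true) 11 24576 = true := by decide +kernel
theorem lv0_13 : allBits (fun k => bif Nat.blt k 31671 then chkOrbPos Cfsg.Agent.Lib.ToddCox.Fi23_31671.tab L 0 0 31671 31671 (fun q => orbR (Nat.add 0 q)) k else true) 11 26624 = true := by decide +kernel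
theorem lv0_14 : allBits (fun k => bif Nat.blt k 31671 then chkOrbPos Cfsg.Agent.Lib.ToddCox.Fi23_31671.tab L 0 0 31671 31671 (fun q => orbR (Nat.add 0 q)) k else true) 11 28672 = true := by decide +kernel
theorem lv0_15 : allBits (fun k => bif Nat.blt k 31671 then chkOrbPos Cfsg.Agent.Lib.ToddCox.Fi23_31671.tab L 0 0 31671 31671 (fun q => orbR (Nat.add 0 q)) k else true) 11 30720 = true := by decide +kernel
theorem fx0 : ∀ w ∈ L.drop 10, tabW Cfsg.Agent.Lib.ToddCox.Fi23_31671.tab w 0 = 0 := by decide +kernel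
theorem lv1_0 : allBits (fun k => bif Nat.blt k 28160 then chkOrbPos Cfsg.Agent.Lib.ToddCox.Fi23_31671.tab L 10 1 28160 31671 (fun q => orbR (Nat.add 31671 q)) k else true) 11 0 = true := by decide +kernel
theorem lv1_1 : allBits (fun k => bif Nat.blt k 28160 then chkOrbPos Cfsg.Agent.Lib.ToddCox.Fi23_31671.tab L 10 1 28160 31671 (fun q => orbR (Nat.add 31671 q)) k else true) 11 2048 = true := by decide +kernel
theorem lv1_2 : allBits (fun k => bif Nat.blt k 28160 then chkOrbPos Cfsg.Agent.Lib.ToddCox.Fi23_31671.tab L 10 1 28160 31671 (fun q => orbR (Nat.add 31671 q)) k else true) 11 4096 = true := by decide +kernel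
theorem lv1_3 : allBits (fun k => bif Nat.blt k 28160 then chkOrbPos Cfsg.Agent.Lib.ToddCox.Fi23_31671.tab L 10 1 28160 31671 (fun q => orbR (Nat.add 31671 q)) k else true) 11 6144 = true := by decide +kernel
theorem lv1_4 : allBits (fun k => bif Nat.blt k 28160 then chkOrbPos Cfsg.Agent.Lib.ToddCox.Fi23_31671.tab L 10 1 28160 31671 (fun q => orbR (Nat.add 31671 q)) k else true) 11 8192 = true := by decide +kernel
theorem lv1_5 : allBits (fun k => bif Nat.blt k 28160 then chkOrbPos Cfsg.Agent.Lib.ToddCox.Fi23_31671.tab L 10 1 28160 31671 (fun q => orbR (Nat.add 31671 q)) k else true) 11 10240 = true := by decide +kernel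
theorem lv1_6 : allBits (fun k => bif Nat.blt k 28160 then chkOrbPos Cfsg.Agent.Lib.ToddCox.Fi23_31671.tab L 10 1 28160 31671 (fun q => orbR (Nat.add 31671 q)) k else true) 11 12288 = true := by decide +kernel
theorem lv1_7 : allBits (fun k => bif Nat.blt k 28160 then chkOrbPos Cfsg.Agent.Lib.ToddCox.Fi23_31671.tab L 10 1 28160 31671 (fun q => orbR (Nat.add 31671 q)) k else true) 11 14336 = true := by decide +kernel
theorem lv1_8 : allBits (fun k => bif Nat.blt k 28160 then chkOrbPos Cfsg.Agent.Lib.ToddCox.Fi23_31671.tab L 10 1 28160 31671 (fun q => orbR (Nat.add 31671 q)) k else true) 11 16384 = true := by decide +kernel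
theorem lv1_9 : allBits (fun k => bif Nat.blt k 28160 then chkOrbPos Cfsg.Agent.Lib.ToddCox.Fi23_31671.tab L 10 1 28160 31671 (fun q => orbR (Nat.add 31671 q)) k else true) 11 18432 = true := by decide +kernel
theorem lv1_10 : allBits (fun k => bif Nat.blt k 28160 then chkOrbPos Cfsg.Agent.Lib.ToddCox.Fi23_31671.tab L 10 1 28160 31671 (fun q => orbR (Nat.add 31671 q)) k else true) 11 20480 = true := by decide +kernel
theorem lv1_11 : allBits (fun k => bif Nat.blt k 28160 then chkOrbPos Cfsg.Agent.Lib.ToddCox.Fi23_31671.tab L 10 1 28160 31671 (fun q => orbR (Nat.add 31671 q)) k else true) 11 22528 = true := by decide +kernel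
theorem lv1_12 : allBits (fun k => bif Nat.blt k 28160 then chkOrbPos Cfsg.Agent.Lib.ToddCox.Fi23_31671.tab L 10 1 28160 31671 (fun q => orbR (Nat.add 31671 q)) k else true) 11 24576 = true := by decide +kernel
theorem lv1_13 : allBits (fun k => bif Nat.blt k 28160 then chkOrbPos Cfsg.Agent.Lib.ToddCox.Fi23_31671.tab L 10 1 28160 31671 (fun q => orbR (Nat.add 31671 q)) k else true) 11 26624 = true := by decide +kernel
theorem fx1 : ∀ w ∈ L.drop 19, tabW Cfsg.Agent.Lib.ToddCox.Fi23_31671.tab w 1 = 1 := by decide +kernel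
theorem lv2_0 : allBits (fun k => bif Nat.blt k 21840 then chkOrbPos Cfsg.Agent.Lib.ToddCox.Fi23_31671.tab L 19 203 21840 31671 (fun q => orbR (Nat.add 59831 q)) k else true) 11 0 = true := by decide +kernel
theorem lv2_1 : allBits (fun k => bif Nat.blt k 21840 then chkOrbPos Cfsg.Agent.Lib.ToddCox.Fi23_31671.tab L 19 203 21840 31671 (fun q => orbR (Nat.add 59831 q)) k else true) 11 2048 = true := by decide +kernel
theorem lv2_2 : allBits (fun k => bif Nat.blt k 21840 then chkOrbPos Cfsg.Agent.Lib.ToddCox.Fi23_31671.tab L 19 203 21840 31671 (fun q => orbR (Nat.add 59831 q)) k else true) 11 4096 = true := by decide +kernel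
theorem lv2_3 : allBits (fun k => bif Nat.blt k 21840 then chkOrbPos Cfsg.Agent.Lib.ToddCox.Fi23_31671.tab L 19 203 21840 31671 (fun q => orbR (Nat.add 59831 q)) k else true) 11 6144 = true := by decide +kernel
theorem lv2_4 : allBits (fun k => bif Nat.blt k 21840 then chkOrbPos Cfsg.Agent.Lib.ToddCox.Fi23_31671.tab L 19 203 21840 31671 (fun q => orbR (Nat.add 59831 q)) k else true) 11 8192 = true := by decide +kernel
theorem lv2_5 : allBits (fun k => bif Nat.blt k 21840 then chkOrbPos Cfsg.Agent.Lib.ToddCox.Fi23_31671.tab L 19 203 21840 31671 (fun q => orbR (Nat.add 59831 q)) k else true) 11 10240 = true := by decide +kernel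
theorem lv2_6 : allBits (fun k => bif Nat.blt k 21840 then chkOrbPos Cfsg.Agent.Lib.ToddCox.Fi23_31671.tab L 19 203 21840 31671 (fun q => orbR (Nat.add 59831 q)) k else true) 11 12288 = true := by decide +kernel
theorem lv2_7 : allBits (fun k => bif Nat.blt k 21840 then chkOrbPos Cfsg.Agent.Lib.ToddCox.Fi23_31671.tab L 19 203 21840 31671 (fun q => orbR (Nat.add 59831 q)) k else true) 11 14336 = true := by decide +kernel
theorem lv2_8 : allBits (fun k => bif Nat.blt k 21840 then chkOrbPos Cfsg.Agent.Lib.ToddCox.Fi23_31671.tab L 19 203 21840 31671 (fun q => orbR (Nat.add 59831 q)) k else true) 11 16384 = true := by decide +kernel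
theorem lv2_9 : allBits (fun k => bif Nat.blt k 21840 then chkOrbPos Cfsg.Agent.Lib.ToddCox.Fi23_31671.tab L 19 203 21840 31671 (fun q => orbR (Nat.add 59831 q)) k else true) 11 18432 = true := by decide +kernel
theorem lv2_10 : allBits (fun k => bif Nat.blt k 21840 then chkOrbPos Cfsg.Agent.Lib.ToddCox.Fi23_31671.tab L 19 203 21840 31671 (fun q => orbR (Nat.add 59831 q)) k else true) 11 20480 = true := by decide +kernel
theorem fx2 : ∀ w ∈ L.drop 27, tabW Cfsg.Agent.Lib.ToddCox.Fi23_31671.tab w 203 = 203 := by decide +kernel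
theorem lv3_0 : allBits (fun k => bif Nat.blt k 7776 then chkOrbPos Cfsg.Agent.Lib.ToddCox.Fi23_31671.tab L 27 1230 7776 31671 (fun q => orbR (Nat.add 81671 q)) k else true) 11 0 = true := by decide +kernel
theorem lv3_1 : allBits (fun k => bif Nat.blt k 7776 then chkOrbPos Cfsg.Agent.Lib.ToddCox.Fi23_31671.tab L 27 1230 7776 31671 (fun q => orbR (Nat.add 81671 q)) k else true) 11 2048 = true := by decide +kernel
theorem lv3_2 : allBits (fun k => bif Nat.blt k 7776 then chkOrbPos Cfsg.Agent.Lib.ToddCox.Fi23_31671.tab L 27 1230 7776 31671 (fun q => orbR (Nat.add 81671 q)) k else true) 11 4096 = true := by decide +kernel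
theorem lv3_3 : allBits (fun k => bif Nat.blt k 7776 then chkOrbPos Cfsg.Agent.Lib.ToddCox.Fi23_31671.tab L 27 1230 7776 31671 (fun q => orbR (Nat.add 81671 q)) k else true) 11 6144 = true := by decide +kernel
theorem fx3 : ∀ w ∈ L.drop 35, tabW Cfsg.Agent.Lib.ToddCox.Fi23_31671.tab w 1230 = 1230 := by decide +kernel
theorem lv4_0 : allBits (fun k => bif Nat.blt k 27 then chkOrbPos Cfsg.Agent.Lib.ToddCox.Fi23_31671.tab L 35 2 27 31671 (fun q => orbR (Nat.add 89447 q)) k else true) 11 0 = true := by decide +kernel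
theorem fx4 : ∀ w ∈ L.drop 38, tabW Cfsg.Agent.Lib.ToddCox.Fi23_31671.tab w 2 = 2 := by decide +kernel
end Cfsg.Agent.Lib.ToddCox.Fi23O
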