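import Cfsg.Agent.Lib.ToddCox.Chunk
import Cfsg.Agent.Lib.ToddCox.Fi23X.Data
import Cfsg.Agent.Lib.ToddCox.Fi23_31671.Tab
set_option autoImplicit false
set_option maxRecDepth 100000
namespace Cfsg.Agent.Lib.ToddCox.Fi23O

def xpow : List ℕ := [nat_lit 5, nat_lit 6, nat_lit 2, nat_lit 4, nat_lit 3, nat_lit 9, nat_lit 1, nat_lit 4, nat_lit 0, nat_lit 6, nat_lit 0, nat_lit 7, nat_lit 0, nat_lit 6, nat_lit 3, nat_lit 8, nat_lit 9, nat_lit 5, nat_lit 6, nat_lit 2, nat_lit 4, nat_lit 3, nat_lit 9, nat_lit 1, nat_lit 4, nat_lit 0, nat_lit 6, nat_lit 0, nat_lit 7, nat_lit 0, nat_lit 6, nat_lit 3, nat_lit 8, nat_lit 9, nat_lit 5, nat_lit 6, nat_lit 2, nat_lit 4, nat_lit 3, nat_lit 9, nat_lit 1, nat_lit 4, nat_lit 0, nat_lit 6, nat_lit 0, nat_lit 7, nat_lit 0, nat_lit 6, nat_lit 3, nat_lit 8, nat_lit 9, nat_lit 5, nat_lit 6, nat_lit 2,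 nat_lit 4, nat_lit 3, nat_lit 9, nat_lit 1, nat_lit 4, nat_lit 0, nat_lit 6, nat_lit 0, nat_lit 7, nat_lit 0, nat_lit 6, nat_lit 3, nat_lit 8, nat_lit 9, nat_lit 5, nat_lit 6, nat_lit 2, nat_lit 4, nat_lit 3, nat_lit 9, nat_lit 1, nat_lit 4, nat_lit 0, nat_lit 6, nat_lit 0, nat_lit 7, nat_lit 0, nat_lit 6, nat_lit 3, nat_lit 8, nat_lit 9, nat_lit 5, nat_lit 6, nat_lit 2, nat_lit 4, nat_lit 3, nat_lit 9, nat_lit 1, nat_lit 4, nat_lit 0, nat_lit 6, nat_lit 0, nat_lit 7, nat_lit 0, nat_lit 6, nat_lit 3, nat_lit 8, nat_lit 9, nat_lit 5, nat_lit 6, nat_lit 2, nat_lit 4, nat_lit 3, nat_lit 9, nat_lit 1, nat_lit 4, nat_lit 0, nat_lit 6, nat_lit 0, nat_lit 7, nat_lit 0, nat_lit 6, nat_lit 3, nat_lit 8, nat_lit 9, nat_lit 5, nat_lit 6, nat_lit 2, nat_lit 4, nat_lit 3, nat_lit 9, nat_lit 1, nat_lit 4, nat_lit 0, nat_lit 6, nat_lit 0, nat_lit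 7, nat_lit 0, nat_lit 6, nat_lit 3, nat_lit 8, nat_lit 9, nat_lit 5, nat_lit 6, nat_lit 2, nat_lit 4, nat_lit 3, nat_lit 9, nat_lit 1, nat_lit 4, nat_lit 0, nat_lit 6, nat_lit 0, nat_lit 7, nat_lit 0, nat_lit 6, nat_lit 3, nat_lit 8, nat_lit 9, nat_lit 5, nat_lit 6, nat_lit 2, nat_lit 4, nat_lit 3, nat_lit 9, nat_lit 1, nat_lit 4, nat_lit 0, nat_lit 6, nat_lit 0, nat_lit 7, nat_lit 0, nat_lit 6, nat_lit 3, nat_lit 8, nat_lit 9, nat_lit 5, nat_lit 6, nat_lit 2, nat_lit 4, nat_lit 3, nat_lit 9, nat_lit 1, nat_lit 4, nat_lit 0, nat_lit 6, nat_lit 0, nat_lit 7, nat_lit 0, nat_lit 6, nat_lit 3, nat_lit 8, nat_lit 9, nat_lit 5, nat_lit 6, nat_lit 2, nat_lit 4, nat_lit 3, nat_lit 9, nat_lit 1, nat_lit 4, nat_lit 0, nat_lit 6, nat_lit 0, nat_lit 7, nat_lit 0, nat_lit 6, nat_lit 3, nat_lit 8, nat_lit 9, nat_lit 5, nat_lit 6, nat_lit 2,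 nat_lit 4, nat_lit 3, nat_lit 9, nat_lit 1, nat_lit 4, nat_lit 0, nat_lit 6, nat_lit 0, nat_lit 7, nat_lit 0, nat_lit 6, nat_lit 3, nat_lit 8, nat_lit 9, nat_lit 5, nat_lit 6, nat_lit 2, nat_lit 4, nat_lit 3, nat_lit 9, nat_lit 1, nat_lit 4, nat_lit 0, nat_lit 6, nat_lit 0, nat_lit 7, nat_lit 0, nat_lit 6, nat_lit 3, nat_lit 8, nat_lit 9, nat_lit 5, nat_lit 6, nat_lit 2, nat_lit 4, nat_lit 3, nat_lit 9, nat_lit 1, nat_lit 4, nat_lit 0, nat_lit 6, nat_lit 0, nat_lit 7, nat_lit 0, nat_lit 6, nat_lit 3, nat_lit 8, nat_lit 9, nat_lit 5, nat_lit 6, nat_lit 2, nat_lit 4, nat_lit 3, nat_lit 9, nat_lit 1, nat_lit 4, nat_lit 0, nat_lit 6, nat_lit 0, nat_lit 7, nat_lit 0, nat_lit 6, nat_lit 3, nat_lit 8, nat_lit 9, nat_lit 5, nat_lit 6, nat_lit 2, nat_lit 4, nat_lit 3, nat_lit 9, nat_lit 1, nat_lit 4, nat_lit 0, nat_lit 6, nat_lit 0, nat_lit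 7, nat_lit 0, nat_lit 6, nat_lit 3, nat_lit 8, nat_lit 9]
theorem xpow_eq : xpow = powW Cfsg.Agent.Lib.ToddCox.Fi23X.xw 17 := by decide +kernel
theorem xpowL : ∀ a ∈ xpow, a < 10 := by decide +kernel
noncomputable abbrev fxp : ℕ → Bool := fun i => Nat.beq (tabW Cfsg.Agent.Lib.ToddCox.Fi23_31671.tab xpow i) i

end Cfsg.Agent.Lib.ToddCox.Fi23O
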